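import Cfsg.Agent.H1.CanonExt

/-!
# The degree budget on the part of an involution centraliser where the involution acts as `-1`: data

`C` stands for the centraliser of the involution `t`, `O` for its odd core, `R` for the abelian 2-subgroup
containing `s` and its image under the swap `w`, `K` for the preimage of the torus inside the centraliser
of `s`, `D₀` for the elements of `C_O(s)` which are central in the frame of `u = s²`.
`χ` is the part of the character of degree `Q² + Q + 1` on which `t` acts as `-1`.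
-/

set_option autoImplicit false

namespace Cfsg.Agent.H74.Wr

open Subgroup

universe u

/-- Data for the degree budget. -/
structure BudgetData (C : Type u) [Group C] [Fintype C] (O : Subgroup C) [O.Normal] (Q : ℤ) where
  t : C
  s : C
  w : C
  R : Subgroup C
  K : Subgroup C
  D₀ : Subgroup C
  χ : C → ℂ
  Q_odd : Odd Q
  Q_three : 3 ≤ Q.natAbs
  odd_card : Odd (Nat.card O)
  t_sq : t * t = 1
  t_center : t ∈ Subgroup.center C
  t_comm : t ∈ commutator C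
  t_mem : t ∈ R
  s_mem : s ∈ R
  R_two : IsPGroup 2 R
  R_comm : ∀ x ∈ R, ∀ y ∈ R, x * y = y * x
  s_four : s ^ 4 = 1
  w_R : ∀ x ∈ R, w * x * w⁻¹ ∈ R ∧ w⁻¹ * x * w ∈ R
  /-- the product of `s` and its image under the swap squares to `t` -/
  sw_sq : (s * (w⁻¹ * s * w)) ^ 2 = t
  R_le : R ≤ K
  w_K : ∀ k ∈ K, w * k * w⁻¹ ∈ K ∧ w⁻¹ * k * w ∈ K
  K_s : ∀ k ∈ K, k * s = s * k
  D₀_le : D₀ ≤ O ⊓ Subgroup.centralizer {s}
  K_D₀ : ∀ k ∈ K, ∀ d ∈ O ⊓ Subgroup.centralizer {s}, k * d * k⁻¹ * d⁻¹ ∈ D₀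
  D₀_conj : ∀ c ∈ O ⊓ Subgroup.centralizer {s}, ∀ d ∈ D₀, c * d * c⁻¹ ∈ D₀
  D₀_comm : ∀ c ∈ O ⊓ Subgroup.centralizer {s}, ∀ d ∈ O ⊓ Subgroup.centralizer {s},
    c * d * c⁻¹ * d⁻¹ ∈ D₀
  D₀_cyc : ∃ d₀ ∈ O ⊓ Subgroup.centralizer (R : Set C), ∀ d ∈ O ⊓ Subgroup.centralizer (R : Set C),
    ∃ i : ℤ, (d₀ ^ i)⁻¹ * d ∈ D₀
  w_D₀ : ∀ d ∈ D₀, d ∈ Subgroup.centralizer (R : Set C) → w⁻¹ * d * w ∈ D₀
  χ_char : Cfsg.IsCharacter C χ
  χ_t : ∀ x, χ (t * x) = -χ x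
  χ_one : χ 1 = ((Q : ℂ) ^ 2 - 1) / 2
  trace : ∃ ε : ℤ, (ε = 1 ∨ ε = -1) ∧ ∀ d ∈ O ⊓ Subgroup.centralizer {s},
    (d ∈ D₀ → χ (s * d) = (ε : ℂ) * (((Q : ℂ) - 1) / 2)) ∧ (d ∉ D₀ → χ (s * d) = 0)
  /-- the table fact -/
  odd_bound : ∀ η : C → ℂ, Cfsg.IsIrrCharacter C η → (∀ o ∈ O, η o = η 1) → η t = -η 1 →
    ∀ ζ : ℂ, ζ ^ 4 = 1 → |(ζ * η s).re| * (Q + 1).natAbs ≤ (η 1).re
  /-- the bound for the permutation characters of `C / O`: fixed points of the torus -/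
  perm_bound : ∀ M : Subgroup C, O ≤ M → M ≠ ⊤ →
    (Q + 1).natAbs * Nat.card {x : C ⧸ M // ∀ k ∈ K, k • x = x} ≤ 2 * M.index
  /-- in the case of equality the swap moves the fixed cosets and stabilisers move the other one -/
  perm_tie : D₀ ≠ O ⊓ Subgroup.centralizer {s} → ∀ M : Subgroup C, O ≤ M → M ≠ ⊤ →
    (Q + 1).natAbs * Nat.card {x : C ⧸ M // ∀ k ∈ K, k • x = x} = 2 * M.index →
    ∀ x : C ⧸ M, (∀ k ∈ K, k • x = x) → ∃ g : C, g • x = x ∧ g • (w • x) ≠ w • x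
  /-- invariant characters with linear correspondent extend -/
  extends_invariant : ∀ θ : O → ℂ, Cfsg.IsIrrCharacter O θ →
    (∀ (c : C) (o o' : O), (o' : C) = c * o * c⁻¹ → θ o' = θ o) →
    ∃ Θ : C → ℂ, Cfsg.IsIrrCharacter C Θ ∧ ∀ o : O, Θ o = θ o

end Cfsg.Agent.H74.Wr
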