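import Cfsg.Agent.H1.CanonExt
import Cfsg.Agent.CharInduce.CoprimeExt

/-!
# Coset coefficients of a character against an odd extension

`Γ = O R` with `O` normal of odd order and `Γ ⧸ O` an abelian 2-group: the sums
`∑ g ∈ O, χ (g x) conj (φ (g x))` are the values of a sum of linear characters of `Γ ⧸ O`.
-/

set_option autoImplicit false

namespace Cfsg.Agent.H74.Wr

open scoped ComplexConjugate
open Cfsg.Agent.CharBasic Finset

universe u

variable {Γ : Type u} [Group Γ] [Fintype Γ] (O : Subgroup Γ) [O.Normal]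

/-- An invariant irreducible character has an extension with odd determinantal order. -/
theorem exists_odd_ext (hodd : Odd (Nat.card O)) (hidx : IsPGroup 2 (Γ ⧸ O)) {θ : O → ℂ}
    (hθ : Cfsg.IsIrrCharacter O θ)
    (hinv : ∀ (g : Γ) (n : O), θ ⟨g * n * g⁻¹, ‹O.Normal›.conj_mem (n : Γ) n.2 g⟩ = θ n) :
    ∃ φ : Γ → ℂ, Cfsg.IsIrrCharacter Γ φ ∧ (∀ n : O, φ n = θ n) ∧ Odd (Cfsg.detOrder φ) := by
  classical
  haveI : Fact (Nat.Prime 2) := ⟨Nat.prime_two⟩
  haveI := Fintype.ofFinite O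
  obtain ⟨k, hk⟩ := IsPGroup.iff_card.1 hidx
  have hco : ∀ m : ℕ, Odd m → Nat.Coprime O.index m := fun m hm => by
    rw [Subgroup.index_eq_card, hk]
    exact (Nat.coprime_two_left.2 hm).pow_left k
  obtain ⟨d, -, hd, hdvd, -⟩ := IsIrr.degree_dvd hθ
  have hdodd : Odd d := hodd.of_dvd_nat hdvd
  have hθc := IsIrr.isCharacter hθ
  obtain ⟨l, hl⟩ := CharInduce.exists_detChar_eq_hom hθc
  have hlo : Odd (orderOf l) := hodd.of_dvd_nat (CharInduce.orderOf_hom_dvd_card l)
  have hdo : Cfsg.detOrder θ = orderOf l := by rw [Cfsg.detOrder, hl, CharInduce.orderOf_homFun]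
  obtain ⟨η, hη, hres⟩ := CharInduce.exists_extension_of_coprime (d := d) hθ hinv hd
    (hco _ (by rw [hdo]; exact hlo.mul hdodd))
  have hlinv : ∀ (g : Γ) (n : O), l ⟨g * n * g⁻¹, ‹O.Normal›.conj_mem (n : Γ) n.2 g⟩ = l n := by
    intro g n
    obtain ⟨D, hD⟩ := CharInduce.exists_detChar_eq_hom (IsIrr.isCharacter hη)
    have e : ∀ m : O, l m = D m := fun m => Units.ext (by
      rw [← congrFun hl m, ← CharInduce.detChar_res O (IsIrr.isCharacter hη) hres m]
      exact congrFun hD m)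
    rw [e, e, Subgroup.coe_mk, map_mul, map_mul, map_inv, mul_comm (D g), mul_inv_cancel_right]
  obtain ⟨μ, hμ, hμo, -⟩ := CharInduce.exists_hom_extension_coprime (N := O) l hlinv (hco _ hlo)
  obtain ⟨φ, ⟨hφ, hφres, hφdet⟩, -⟩ := CharInduce.exists_unique_extension_det hθ hd (hco _ hdodd) hη
    hres μ (fun n => by rw [hμ]; exact (congrFun hl n).symm)
  exact ⟨φ, hφ, hφres, by rw [Cfsg.detOrder, hφdet, CharInduce.orderOf_homFun, hμo]; exact hlo⟩

/-- A central involution acts as `1` in a character of odd degree and odd determinantal order. -/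
theorem apply_mul_central {φ : Γ → ℂ} (hφ : Cfsg.IsIrrCharacter Γ φ) {t : Γ}
    (ht : t ∈ Subgroup.center Γ) (ht2 : t * t = 1) {d : ℕ} (hd : φ 1 = d) (hdodd : Odd d)
    (hdet : Odd (Cfsg.detOrder φ)) (g : Γ) : φ (g * t) = φ g := by
  obtain ⟨n, ρ, hρ, rfl⟩ := hφ
  haveI := hρ
  obtain ⟨ω, hω, -, hval⟩ := exists_central_scalar (ρ := ρ) ht
  have hn : n = d := by
    have : (n : ℂ) = d := by rw [← hd]; simp
    exact_mod_cast this
  have hωω : ω ^ 2 = 1 := by
    have h1 := hval t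
    have h2 := hval 1
    rw [one_mul] at h2
    rw [ht2, h2] at h1
    have h3 : ρ.character 1 ≠ 0 := by rw [hd, Nat.cast_ne_zero]; exact hdodd.pos.ne'
    exact mul_right_cancel₀ h3 (by rw [sq, one_mul, mul_assoc]; exact h1.symm)
  have h := H1.detChar_pow_detOrder ρ.character t
  rw [CharInduce.detChar_eq ρ rfl] at h
  simp only [CharInduce.coe_detHom, hω, LinearMap.det_smul, LinearMap.det_id, mul_one,
    Module.finrank_fin_fun, ← pow_mul] at h
  obtain ⟨j, hj⟩ := (hn ▸ hdodd).mul hdet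
  rw [hj, pow_succ, pow_mul, hωω, one_pow, one_mul] at h
  rw [hval, h, one_mul]

/-- The coset coefficient. -/
noncomputable def coeff [Fintype O] (χ φ : Γ → ℂ) (x : Γ) : ℂ :=
  (Nat.card O : ℂ)⁻¹ * ∑ g : O, χ ((g : Γ) * x) * conj (φ ((g : Γ) * x))

/-- The coset coefficients are a combination of linear characters with natural coefficients. -/
theorem exists_coeff_expansion [Fintype O] (hcomm : ∀ a b : Γ ⧸ O, a * b = b * a)
    {χ φ : Γ → ℂ} (hχ : Cfsg.IsCharacter Γ χ) (hφ : Cfsg.IsIrrCharacter Γ φ) :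
    ∃ (ι : Type u) (_ : Fintype ι) (L : ι → (Γ →* ℂˣ)) (N : ι → ℕ),
      (∀ i, ∀ o ∈ O, L i o = 1) ∧ (∀ x, coeff O χ φ x = ∑ i, (N i : ℂ) * (L i x : ℂ)) ∧
      (∀ t, (∀ x, χ (x * t) = -χ x) → (∀ x, φ (x * t) = φ x) →
        ∀ i, N i ≠ 0 → (L i t : ℂ) = -1) := by
  classical
  haveI : Fintype (Γ ⧸ O) := Fintype.ofFinite _
  let π := QuotientGroup.mk' O
  let F : Γ ⧸ O → ℂ := fun q =>
    (Nat.card O : ℂ)⁻¹ * ∑ x ∈ univ.filter (fun x => π x = q), χ x * conj (φ x)
  have hFa : ∀ a : Γ, F (π a) = coeff O χ φ a := by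
    intro a
    simp only [F, coeff]
    congr 1
    symm
    refine Finset.sum_bij' (fun g _ => (g : Γ) * a) (fun x hx => (⟨x * a⁻¹, ?_⟩ : O)) ?_ ?_ ?_ ?_ ?_
    · exact (QuotientGroup.eq_one_iff _).1 (show π (x * a⁻¹) = 1 by
        rw [map_mul, (mem_filter.1 hx).2, map_inv, mul_inv_cancel])
    · intro g _
      rw [mem_filter]
      refine ⟨mem_univ _, ?_⟩
      rw [map_mul, show π (g : Γ) = 1 from (QuotientGroup.eq_one_iff _).2 g.2, one_mul]
    · intro x _
      exact mem_univ _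
    · intro g _
      simp
    · intro x _
      simp
    · intro g _
      rfl
  have hFc : Cfsg.IsClassFunction (Γ ⧸ O) F := fun q r => by
    rw [hcomm r q, mul_inv_cancel_right]
  have hlam : ∀ lam : Cfsg.IrrCharacter (Γ ⧸ O), ∃ L : Γ ⧸ O →* ℂˣ,
      ∀ q, (lam : Γ ⧸ O → ℂ) q = (L q : ℂ) := fun lam =>
    CharInduce.IsChar.exists_hom_of_degree_one (IsIrr.isCharacter lam.2)
      (CharBasic.commutative_iff_forall_linear.1 hcomm lam)
  choose L hL using hlam
  have hinner : ∀ lam : Cfsg.IrrCharacter (Γ ⧸ O),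
      Cfsg.classInner F (lam : Γ ⧸ O → ℂ) =
        Cfsg.classInner χ (fun x => (((L lam).comp π) x : ℂ) * φ x) := by
    intro lam
    have hsum : ∑ q : Γ ⧸ O, F q * conj ((lam : Γ ⧸ O → ℂ) q) =
        (Nat.card O : ℂ)⁻¹ * ∑ x : Γ, χ x * conj ((((L lam).comp π) x : ℂ) * φ x) := by
      rw [← Finset.sum_fiberwise univ π fun x => χ x * conj ((((L lam).comp π) x : ℂ) * φ x),
        Finset.mul_sum]
      refine Finset.sum_congr rfl fun q _ => ?_
      simp only [F]
      rw [mul_assoc, Finset.sum_mul]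
      congr 1
      refine Finset.sum_congr rfl fun x hx => ?_
      rw [hL, map_mul, MonoidHom.comp_apply, (mem_filter.1 hx).2]
      ring
    rw [classInner_def, classInner_def, hsum, Subgroup.card_eq_card_quotient_mul_card_subgroup O]
    push_cast
    have : (Nat.card O : ℂ) ≠ 0 := by simp
    field_simp
  have hnat : ∀ lam : Cfsg.IrrCharacter (Γ ⧸ O), ∃ n : ℕ,
      Cfsg.classInner F (lam : Γ ⧸ O → ℂ) = n := fun lam => by
    rw [hinner]
    exact classInner_isChar_nat hχ (IsIrr.isCharacter (H1.isIrr_twist hφ _))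
  choose N hN using hnat
  haveI : Finite (Cfsg.IrrCharacter (Γ ⧸ O)) := finite_irrCharacter
  haveI : Fintype (Cfsg.IrrCharacter (Γ ⧸ O)) := Fintype.ofFinite _
  have hexp : F = fun q => ∑ lam, (N lam : ℂ) * (L lam q : ℂ) := by
    refine sub_eq_zero.1 (eq_zero_of_classInner_eq_zero ?_ fun μ => ?_)
    · intro q r
      simp only [hcomm r q, mul_inv_cancel_right]
    · rw [classInner_sub_left, hN, show (fun q => ∑ lam, (N lam : ℂ) * (L lam q : ℂ)) =
          ∑ lam, (N lam : ℂ) • (lam : Γ ⧸ O → ℂ) from funext fun q => by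
        rw [Finset.sum_apply]; exact Finset.sum_congr rfl fun lam _ => by
          rw [Pi.smul_apply, smul_eq_mul, hL],
        classInner_sum_left, Finset.sum_eq_single μ]
      · rw [classInner_smul_left, classInner_irr_self μ.2, mul_one, sub_self]
      · intro lam _ hne
        rw [classInner_smul_left, classInner_irrCharacter, if_neg hne, mul_zero]
      · exact fun h => absurd (mem_univ _) h
  refine ⟨_, inferInstance, fun lam => (L lam).comp π, N, fun lam o ho => ?_, fun x => ?_, ?_⟩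
  · rw [MonoidHom.comp_apply, show π o = 1 from (QuotientGroup.eq_one_iff _).2 ho, map_one]
  · rw [← hFa, congrFun hexp]
    rfl
  · intro t hχt hφt lam hne
    set ℓ : Γ →* ℂˣ := (L lam).comp π
    have hn : Cfsg.classInner χ (fun x => (ℓ x : ℂ) * φ x) = N lam := by rw [← hinner, hN]
    have hsub : Cfsg.classInner χ (fun x => (ℓ x : ℂ) * φ x) =
        -conj (ℓ t : ℂ) * Cfsg.classInner χ (fun x => (ℓ x : ℂ) * φ x) := by
      conv_lhs => rw [classInner_def,
        ← Equiv.sum_comp (Equiv.mulRight t) (fun x => χ x * conj ((ℓ x : ℂ) * φ x))]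
      rw [classInner_def, mul_left_comm]
      congr 1
      rw [Finset.mul_sum]
      refine Finset.sum_congr rfl fun x _ => ?_
      simp only [Equiv.coe_mulRight, hχt, hφt, map_mul, Units.val_mul]
      ring
    rw [hn] at hsub
    have h1 : conj (ℓ t : ℂ) = -1 := by
      have hN0 : (N lam : ℂ) ≠ 0 := by exact_mod_cast hne
      have : (conj (ℓ t : ℂ) + 1) * (N lam : ℂ) = 0 := by linear_combination hsub
      exact eq_neg_of_add_eq_zero_left ((mul_eq_zero.1 this).resolve_right hN0)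
    have := congrArg conj h1
    simpa [ℓ] using this

end Cfsg.Agent.H74.Wr
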