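import Cfsg.Agent.H84.WR.TableModel
import Cfsg.Agent.H84.SD.Engine
import Cfsg.Agent.CharBasic.Kernel
import Cfsg.Agent.H82.PrincipalBlock
import Cfsg.Agent.H3.SDOrder.Descent

/-!
# Functions of `C / O` on `C`, `O` normal of odd order, `t` a central involution

The principal two-blocks correspond; an element has `t` as a power exactly when its image has the
image of `t` as one; over an involution other than the image of `t` lie `|O : C_O(u)|` involutions.
-/

set_option autoImplicit false
set_option linter.unusedSectionVars false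
set_option linter.style.haveILetI false

namespace Cfsg.Agent.H74.Wr

open Finset Subgroup Cfsg Cfsg.Agent.CharBasic Cfsg.Agent.H3.SDOrder.Descent
open scoped ComplexConjugate

universe u v

variable {C : Type u} [Group C] [Fintype C] {K : Type v} [Group K] [Fintype K]

/-- A quotient map with kernel of odd order and a central involution upstairs. -/
structure OddQuot (q : C →* K) (t : C) : Prop where
  surj : Function.Surjective q
  odd : Odd (Nat.card q.ker)
  ord : orderOf t = 2
  central : t ∈ center C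

variable {q : C →* K} {t : C} (hq : OddQuot q t)

include hq in
theorem OddQuot.sq : t * t = 1 := by rw [← pow_two]; exact orderOf_dvd_iff_pow_eq_one.1 (dvd_of_eq hq.ord)

include hq in
theorem OddQuot.eq_one_of_sq {x : C} (hx : x ∈ q.ker) (h : x * x = 1) : x = 1 := by
  obtain ⟨r, hr⟩ := hq.odd
  have h1 : x ^ (2 * r + 1) = 1 := by
    rw [← hr]; exact congrArg Subtype.val (pow_card_eq_one' (G := q.ker) (x := ⟨x, hx⟩))
  rwa [pow_succ, pow_mul, pow_two, h, one_pow, one_mul] at h1

include hq in
theorem OddQuot.q_t_ne : q t ≠ 1 := fun h => by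
  have := hq.ord
  rw [hq.eq_one_of_sq (MonoidHom.mem_ker.2 h) hq.sq, orderOf_one] at this
  exact absurd this (by norm_num)

include hq in
theorem OddQuot.orderOf_q_t : orderOf (q t) = 2 :=
  orderOf_eq_prime (by rw [pow_two, ← map_mul, hq.sq, map_one]) hq.q_t_ne

include hq in
/-- Having `t` as a power is seen in the quotient. -/
theorem OddQuot.mem_zpowers_iff_image (x : C) : t ∈ zpowers x ↔ q t ∈ zpowers (q x) := by
  refine ⟨fun h => ?_, fun h => ?_⟩
  · obtain ⟨k, hk⟩ := mem_zpowers_iff.1 h
    exact ⟨k, show q x ^ k = q t by rw [← map_zpow, hk]⟩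
  · obtain ⟨k, hk⟩ := mem_zpowers_iff.1 h
    have hmem : t⁻¹ * x ^ k ∈ q.ker := by
      rw [MonoidHom.mem_ker, map_mul, map_inv, map_zpow, hk, inv_mul_cancel]
    refine mem_zpowers_iff.2 ⟨k * (Nat.card q.ker : ℤ), ?_⟩
    rw [zpow_mul, zpow_natCast, show x ^ k = t * (t⁻¹ * x ^ k) from (mul_inv_cancel_left _ _).symm,
      (show Commute t _ from (mem_center_iff.1 hq.central _).symm).mul_pow,
      show (t⁻¹ * x ^ k) ^ Nat.card q.ker = 1 from
        congrArg Subtype.val (pow_card_eq_one' (G := q.ker) (x := ⟨_, hmem⟩)), mul_one]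
    obtain ⟨r, hr⟩ := hq.odd
    rw [hr, pow_succ, pow_mul, pow_two, hq.sq, one_pow, one_mul]

include hq in
theorem OddQuot.classInner_comp (f g : K → ℂ) :
    classInner (fun x => f (q x)) (fun x => g (q x)) = classInner f g :=
  CharInduce.classInner_comp_surjective q hq.surj f g

/-- The inflation of an irreducible character. -/
noncomputable def OddQuot.infl (ψ : IrrCharacter K) : IrrCharacter C :=
  ⟨fun x => (ψ : K → ℂ) (q x), CharInduce.IsIrr.comp ψ.2 q hq.surj⟩

include hq in
theorem OddQuot.mem_principal {M : Ideal AlgInt} (hM : IsPModular 2 M) (ψ : IrrCharacter K) :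
    ψ ∈ principalBlock M K ↔ hq.infl ψ ∈ principalBlock M C :=
  H84.WR.mem_principal_image hM q hq.surj hq.odd ψ

include hq in
/-- A principal character is inflated from a principal one. -/
theorem OddQuot.exists_infl {M : Ideal AlgInt} (hM : IsPModular 2 M) {ψ : IrrCharacter C}
    (hψ : ψ ∈ principalBlock M C) : ∃ ψ₀ ∈ principalBlock M K, hq.infl ψ₀ = ψ := by
  haveI : (q.ker).Normal := inferInstance
  have hker : ∀ n ∈ q.ker, (ψ : C → ℂ) n = (ψ : C → ℂ) 1 := fun n hn =>
    H82.apply_eq_of_mem_principalBlock hM hψ q.ker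
      (fun hd => Nat.not_even_iff_odd.2 hq.odd (even_iff_two_dvd.2 hd)) hn
  set f : K → ℂ := fun y => (ψ : C → ℂ) (Function.surjInv hq.surj y)
  have hf : ∀ x, f (q x) = (ψ : C → ℂ) x := fun x => by
    set s := Function.surjInv hq.surj (q x)
    have hk : x * s⁻¹ ∈ q.ker := by
      rw [MonoidHom.mem_ker, map_mul, map_inv, Function.surjInv_eq hq.surj, mul_inv_cancel]
    show (ψ : C → ℂ) s = _
    rw [← CharBasic.IsChar.eq_one_mul (IsIrr.isCharacter ψ.2) (hker _ hk) s, inv_mul_cancel_right]
  have hfc : IsClassFunction K f := fun a b => by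
    obtain ⟨x, rfl⟩ := hq.surj a
    obtain ⟨y, rfl⟩ := hq.surj b
    rw [← map_inv, ← map_mul, ← map_mul, hf, hf]
    exact IsIrr.isClassFunction ψ.2 x y
  obtain ⟨χ, hχ⟩ : ∃ χ : IrrCharacter K, classInner f (χ : K → ℂ) ≠ 0 := by
    by_contra hne
    push Not at hne
    have h1 := hf 1
    rw [eq_zero_of_classInner_eq_zero hfc hne] at h1
    exact IsIrr.one_ne_zero ψ.2 h1.symm
  have he : hq.infl χ = ψ := Subtype.ext (by
    by_contra hne
    refine hχ ?_
    rw [← hq.classInner_comp]
    simp only [hf]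
    exact classInner_irr_of_ne ψ.2 (hq.infl χ).2 fun e => hne e.symm)
  exact ⟨χ, (hq.mem_principal hM χ).2 (he ▸ hψ), he⟩

include hq in
/-- An inflated function orthogonal to the non-principal characters downstairs is so upstairs. -/
theorem OddQuot.perp {M : Ideal AlgInt} (hM : IsPModular 2 M) {f : K → ℂ}
    (hfc : IsClassFunction K f)
    (hf : ∀ χ : IrrCharacter K, χ ∉ principalBlock M K → classInner f (χ : K → ℂ) = 0)
    (ψ : IrrCharacter C) (hψ : ψ ∉ principalBlock M C) :
    classInner (fun x => f (q x)) (ψ : C → ℂ) = 0 := by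
  classical
  have e : (fun x => f (q x)) =
      ∑ χ : IrrCharacter K, classInner f (χ : K → ℂ) • (hq.infl χ : C → ℂ) := by
    funext x
    conv_lhs => rw [classFunction_expansion hfc]
    simp [OddQuot.infl, Finset.sum_apply]
  rw [e, classInner_sum_left]
  refine Finset.sum_eq_zero fun χ _ => ?_
  rw [classInner_smul_left]
  by_cases h : χ ∈ principalBlock M K
  · rw [classInner_irr_of_ne (hq.infl χ).2 ψ.2 fun e' => hψ
      (by rw [← show hq.infl χ = ψ from Subtype.ext e']; exact (hq.mem_principal hM χ).1 h),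
      mul_zero]
  · rw [hf χ h, zero_mul]

include hq in
theorem OddQuot.sum_comp (F : K → ℂ) :
    (Nat.card C : ℂ)⁻¹ * ∑ x : C, F (q x) = (Nat.card K : ℂ)⁻¹ * ∑ y : K, F y := by
  simpa [classInner_def] using hq.classInner_comp F (fun _ => 1)

include hq in
theorem OddQuot.special_comp {f : K → ℂ} (hf : ∀ y, f y ≠ 0 → q t ∈ zpowers y) (x : C)
    (hx : f (q x) ≠ 0) : t ∈ zpowers x :=
  (hq.mem_zpowers_iff_image x).2 (hf _ hx)

/-- Involutions in a coset of a normal subgroup of odd order are conjugate under it. -/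
theorem exists_conj_of_coset (N : Subgroup C) [N.Normal] (hN : Odd (Nat.card N)) {a b : C}
    (ha : orderOf a = 2) (hb : orderOf b = 2) (h : a⁻¹ * b ∈ N) :
    ∃ z ∈ N, z * a * z⁻¹ = b := by
  have ha2 : a * a = 1 := by rw [← pow_two]; exact orderOf_dvd_iff_pow_eq_one.1 (dvd_of_eq ha)
  have hb2 : b * b = 1 := by rw [← pow_two]; exact orderOf_dvd_iff_pow_eq_one.1 (dvd_of_eq hb)
  have hai : a⁻¹ = a := inv_eq_of_mul_eq_one_right ha2
  rw [hai] at h
  obtain ⟨r, hr⟩ := hN
  have hy : (a * b) ^ (2 * r + 1) = 1 := by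
    rw [← hr]; exact congrArg Subtype.val (pow_card_eq_one' (G := N) (x := ⟨_, h⟩))
  set z := (a * b) ^ r
  refine ⟨z, pow_mem h r, ?_⟩
  have hinv : a * z * a = z⁻¹ := by
    have h1 : a * (a * b) * a = (a * b)⁻¹ := by
      rw [← mul_assoc, ha2, one_mul, mul_inv_rev, hai, inv_eq_of_mul_eq_one_right hb2]
    show a * (a * b) ^ r * a = ((a * b) ^ r)⁻¹
    rw [← inv_pow, ← h1]
    have h2 : (a * (a * b) * a⁻¹) ^ r = a * (a * b) ^ r * a⁻¹ := conj_pow
    rw [hai] at h2
    exact h2.symm
  have h2 : z⁻¹ * z⁻¹ = a * b := by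
    rw [← mul_inv_rev, inv_eq_iff_mul_eq_one, ← pow_add, ← pow_succ, ← two_mul, hy]
  calc z * a * z⁻¹ = a * (a * z * a) * z⁻¹ := by simp only [← mul_assoc, ha2, one_mul]
    _ = a * (z⁻¹ * z⁻¹) := by rw [hinv, mul_assoc]
    _ = b := by rw [h2, ← mul_assoc, ha2, one_mul]

open scoped Classical in
/-- The involutions in the coset of the involution `a`. -/
theorem card_invol_coset (N : Subgroup C) [N.Normal] (hN : Odd (Nat.card N)) {a : C}
    (ha : orderOf a = 2) :
    #(univ.filter fun x : C => orderOf x = 2 ∧ a⁻¹ * x ∈ N) =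
      (centralizer ({a} : Set C)).relIndex N := by
  rw [Subgroup.relIndex, Subgroup.index_eq_card, ← Fintype.card_subtype, ← Nat.card_eq_fintype_card]
  refine (Nat.card_congr (Equiv.ofBijective
    (Quotient.lift (fun z : N => (⟨(z : C) * a * (z : C)⁻¹,
      (MulEquiv.orderOf_eq (MulAut.conj (z : C)) a).trans ha, ?_⟩ :
        {x : C // orderOf x = 2 ∧ a⁻¹ * x ∈ N})) ?_) ⟨?_, ?_⟩)).symm
  · rw [show a⁻¹ * ((z : C) * a * (z : C)⁻¹) = (a⁻¹ * (z : C) * a⁻¹⁻¹) * (z : C)⁻¹ by group]
    exact mul_mem (Subgroup.Normal.conj_mem ‹_› _ z.2 _) (inv_mem z.2)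
  · intro z z' h
    have h' := QuotientGroup.leftRel_apply.1 h
    rw [mem_subgroupOf, mem_centralizer_singleton_iff] at h'
    refine Subtype.ext ?_
    show (z : C) * a * (z : C)⁻¹ = (z' : C) * a * (z' : C)⁻¹
    calc (z : C) * a * (z : C)⁻¹
        = (z : C) * (a * (((z⁻¹ * z' : N)) : C)) * ((z' : C))⁻¹ := by push_cast; group
      _ = _ := by rw [← h']; push_cast; group
  · rintro ⟨z⟩ ⟨z'⟩ h
    have h' : (z : C) * a * (z : C)⁻¹ = (z' : C) * a * (z' : C)⁻¹ := congrArg Subtype.val h
    refine Quotient.sound (QuotientGroup.leftRel_apply.2 ?_)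
    rw [mem_subgroupOf, mem_centralizer_singleton_iff]
    push_cast
    calc (z : C)⁻¹ * z' * a = (z : C)⁻¹ * ((z' : C) * a * (z' : C)⁻¹) * z' := by group
      _ = a * ((z : C)⁻¹ * z') := by rw [← h']; group
  · rintro ⟨x, hx, hxN⟩
    obtain ⟨z, hz, e⟩ := exists_conj_of_coset N hN ha hx hxN
    exact ⟨QuotientGroup.mk ⟨z, hz⟩, Subtype.ext e⟩

/-- Conjugate elements have centralisers of the same index in a normal subgroup. -/
theorem relIndex_centralizer_conj (N : Subgroup C) [N.Normal] (a g : C) :
    (centralizer ({g * a * g⁻¹} : Set C)).relIndex N = (centralizer ({a} : Set C)).relIndex N := by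
  have h1 : centralizer ({g * a * g⁻¹} : Set C) =
      (centralizer ({a} : Set C)).map (MulAut.conj g).toMonoidHom := by
    ext x
    rw [Subgroup.mem_map, mem_centralizer_singleton_iff]
    refine ⟨fun h => ⟨g⁻¹ * x * g, mem_centralizer_singleton_iff.2 ?_, show
      g * (g⁻¹ * x * g) * g⁻¹ = x by group⟩, ?_⟩
    · calc g⁻¹ * x * g * a = g⁻¹ * (x * (g * a * g⁻¹)) * g := by group
        _ = _ := by rw [h]; group
    · rintro ⟨y, hy, rfl⟩
      rw [mem_centralizer_singleton_iff] at hy
      show g * y * g⁻¹ * (g * a * g⁻¹) = g * a * g⁻¹ * (g * y * g⁻¹)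
      calc g * y * g⁻¹ * (g * a * g⁻¹) = g * (y * a) * g⁻¹ := by group
        _ = _ := by rw [hy]; group
  have h2 : N.map (MulAut.conj g).toMonoidHom = N := by
    ext x
    rw [Subgroup.mem_map]
    refine ⟨?_, fun hx => ⟨g⁻¹ * x * g, by simpa using Subgroup.Normal.conj_mem ‹_› x hx g⁻¹, show
      g * (g⁻¹ * x * g) * g⁻¹ = x by group⟩⟩
    rintro ⟨y, hy, rfl⟩
    exact Subgroup.Normal.conj_mem ‹_› y hy g
  conv_lhs => rw [h1, ← h2]
  exact Subgroup.relIndex_map_map_of_injective _ _ (MulAut.conj g).injective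

include hq in
open scoped Classical in
/-- The involutions of `C` over the quotient: one over `q t`, `m` over every other one. -/
theorem OddQuot.sum_invol {m : ℕ}
    (hm : ∀ u, orderOf u = 2 → u ≠ t → (centralizer ({u} : Set C)).relIndex q.ker = m)
    (Φ : K → ℂ) :
    ∑ x : C, invol x * Φ (q x) =
      (m : ℂ) * (∑ y : K, invol y * Φ y) + (1 - (m : ℂ)) * Φ (q t) := by
  have hord : ∀ x : C, orderOf x = 2 → orderOf (q x) = 2 := fun x hx => by
    refine orderOf_eq_prime ?_ fun h => ?_
    · rw [← map_pow, orderOf_dvd_iff_pow_eq_one.1 (dvd_of_eq hx), map_one]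
    · rw [hq.eq_one_of_sq (MonoidHom.mem_ker.2 h)
        (by rw [← pow_two]; exact orderOf_dvd_iff_pow_eq_one.1 (dvd_of_eq hx)), orderOf_one] at hx
      exact absurd hx (by norm_num)
  have hfib : ∀ y : K, (∑ x : C, if q x = y then invol x else 0) =
      (m : ℂ) * invol y + (1 - (m : ℂ)) * if y = q t then 1 else 0 := by
    intro y
    by_cases hy : orderOf y = 2
    · obtain ⟨a, rfl⟩ := hq.surj y
      have hlift : ∃ x, orderOf x = 2 ∧ q x = q a := by
        obtain ⟨r, hr⟩ := hq.odd
        have hk : a ^ 2 ∈ q.ker := by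
          rw [MonoidHom.mem_ker, map_pow, orderOf_dvd_iff_pow_eq_one.1 (dvd_of_eq hy)]
        have hpow : (a ^ 2) ^ (2 * r + 1) = 1 := by
          rw [← hr]; exact congrArg Subtype.val (pow_card_eq_one' (G := q.ker) (x := ⟨_, hk⟩))
        have hqa : q (a ^ (2 * r + 1)) = q a := by
          rw [map_pow, pow_succ, pow_mul, orderOf_dvd_iff_pow_eq_one.1 (dvd_of_eq hy), one_pow,
            one_mul]
        refine ⟨a ^ (2 * r + 1), orderOf_eq_prime (by rw [← pow_mul, mul_comm, pow_mul, hpow])
          fun h => ?_, hqa⟩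
        rw [← hqa, h, map_one, orderOf_one] at hy
        exact absurd hy (by norm_num)
      obtain ⟨u, hu, hqu⟩ := hlift
      have hset : (∑ x : C, if q x = q a then invol x else 0) =
          ((centralizer ({u} : Set C)).relIndex q.ker : ℂ) := by
        rw [← card_invol_coset q.ker hq.odd hu, Finset.natCast_card_filter]
        refine Finset.sum_congr rfl fun x _ => ?_
        have hiff : (q x = q a) ↔ u⁻¹ * x ∈ q.ker := by
          rw [MonoidHom.mem_ker, map_mul, map_inv, hqu, inv_mul_eq_one, eq_comm]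
        unfold invol
        split_ifs <;> simp_all
      rw [hset, show invol (q a) = (1 : ℂ) from if_pos hy, mul_one]
      by_cases hut : u = t
      · subst hut
        rw [show (centralizer ({u} : Set C)).relIndex q.ker = 1 from
          Subgroup.relIndex_eq_one.2 fun x _ => mem_centralizer_singleton_iff.2
            (mem_center_iff.1 hq.central x), if_pos hqu.symm]
        push_cast; ring
      · rw [hm u hu hut, if_neg fun h => hut ?_]
        · ring
        · obtain ⟨z, hz, e⟩ := exists_conj_of_coset q.ker hq.odd hq.ord hu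
            (by rw [MonoidHom.mem_ker, map_mul, map_inv, ← h, hqu, inv_mul_cancel])
          rw [← e, mem_center_iff.1 hq.central z, mul_inv_cancel_right]
    · rw [show invol y = (0 : ℂ) from if_neg hy,
        if_neg fun h : y = q t => hy (h ▸ hq.orderOf_q_t)]
      simp only [mul_zero, add_zero]
      refine Finset.sum_eq_zero fun x _ => ?_
      split_ifs with h
      · exact if_neg fun hx => hy (h ▸ hord x hx)
      · rfl
  calc ∑ x : C, invol x * Φ (q x) = ∑ y : K, Φ y * ∑ x : C, if q x = y then invol x else 0 := by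
        simp only [Finset.mul_sum, mul_ite, mul_zero]
        rw [Finset.sum_comm]
        refine Finset.sum_congr rfl fun x _ => ?_
        rw [Finset.sum_ite_eq, if_pos (Finset.mem_univ _), mul_comm]
    _ = ∑ y : K, Φ y * ((m : ℂ) * invol y + (1 - (m : ℂ)) * if y = q t then 1 else 0) :=
        Finset.sum_congr rfl fun y _ => by rw [hfib]
    _ = _ := by
        rw [Finset.mul_sum]
        simp only [mul_add, Finset.sum_add_distrib, mul_ite, mul_one, mul_zero, Finset.sum_ite_eq',
          Finset.mem_univ, if_true]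
        congr 1
        · exact Finset.sum_congr rfl fun y _ => by ring
        · ring

include hq in
/-- The sums over products of two involutions grow by `m²` for a function supported on the elements
having the image of `t` as a power. -/
theorem OddQuot.pairSum {m : ℕ}
    (hm : ∀ u, orderOf u = 2 → u ≠ t → (centralizer ({u} : Set C)).relIndex q.ker = m)
    {f : K → ℂ} (hfc : IsClassFunction K f) (hf : ∀ y, f y ≠ 0 → q t ∈ zpowers y) :
    ∑ a : C, ∑ b : C, invol a * invol b * f (q (a * b)) =
      (m : ℂ) ^ 2 * ∑ a : K, ∑ b : K, invol a * invol b * f (a * b) := by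
  classical
  have h1 : f 1 = 0 := by
    by_contra h
    exact hq.q_t_ne (by simpa using hf 1 h)
  have htb : ∀ b : K, orderOf b = 2 → f (q t * b) = 0 := by
    intro b hb
    by_contra h
    have hcom : Commute (q t) b := by
      obtain ⟨x, rfl⟩ := hq.surj b
      exact (show Commute t x from (mem_center_iff.1 hq.central x).symm).map q
    obtain ⟨k, hk⟩ := mem_zpowers_iff.1 (hf _ h)
    have hsq : (q t * b) ^ (2 : ℤ) = 1 := by
      rw [show (2 : ℤ) = ((2 : ℕ) : ℤ) from rfl, zpow_natCast, hcom.mul_pow,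
        orderOf_dvd_iff_pow_eq_one.1 (dvd_of_eq hq.orderOf_q_t),
        orderOf_dvd_iff_pow_eq_one.1 (dvd_of_eq hb), one_mul]
    rcases Int.even_or_odd k with ⟨j, hj⟩ | ⟨j, hj⟩
    · rw [hj, ← two_mul, zpow_mul, hsq, one_zpow] at hk
      exact hq.q_t_ne hk.symm
    · rw [hj, zpow_add, zpow_mul, hsq, one_zpow, one_mul, zpow_one, mul_eq_left] at hk
      rw [hk, orderOf_one] at hb
      exact absurd hb (by norm_num)
  have hz : ∑ b : K, invol b * f (q t * b) = 0 := Finset.sum_eq_zero fun b _ => by
    by_cases hb : orderOf b = 2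
    · rw [htb b hb, mul_zero]
    · rw [invol, if_neg hb, zero_mul]
  have hz' : ∑ b : K, invol b * f (b * q t) = 0 := by
    rw [← hz]
    refine Finset.sum_congr rfl fun b _ => ?_
    obtain ⟨x, rfl⟩ := hq.surj b
    rw [← map_mul, ← map_mul, mem_center_iff.1 hq.central x]
  have hsq : q t * q t = 1 := by rw [← map_mul, hq.sq, map_one]
  calc ∑ a : C, ∑ b : C, invol a * invol b * f (q (a * b))
      = ∑ a : C, invol a * ∑ b : C, invol b * (fun z => f (q a * z)) (q b) :=
        Finset.sum_congr rfl fun a _ => by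
          rw [Finset.mul_sum]
          exact Finset.sum_congr rfl fun b _ => by rw [map_mul, mul_assoc]
    _ = ∑ a : C, invol a * (fun y => (m : ℂ) * (∑ z : K, invol z * f (y * z)) +
          (1 - (m : ℂ)) * f (y * q t)) (q a) :=
        Finset.sum_congr rfl fun a _ => congrArg _ (hq.sum_invol hm fun z => f (q a * z))
    _ = _ := by
      refine (hq.sum_invol hm fun y => (m : ℂ) * (∑ z : K, invol z * f (y * z)) +
          (1 - (m : ℂ)) * f (y * q t)).trans ?_
      simp only [mul_add, Finset.sum_add_distrib, hz, hsq, h1, mul_zero, add_zero]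
      rw [show ∑ x : K, invol x * ((1 - (m : ℂ)) * f (x * q t)) = 0 by
        simp only [mul_left_comm (invol _) (1 - (m : ℂ)), ← Finset.mul_sum, hz', mul_zero],
        mul_zero, add_zero, pow_two (m : ℂ), mul_assoc]
      congr 1
      rw [Finset.mul_sum]
      refine Finset.sum_congr rfl fun a _ => ?_
      rw [mul_left_comm (invol a) (m : ℂ), Finset.mul_sum]
      congr 1
      exact Finset.sum_congr rfl fun b _ => by ring

end Cfsg.Agent.H74.Wr
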