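import Mathlib

/-!
# A central subgroup of odd order meeting the derived group trivially splits off

If `C` modulo a central cyclic `O` of odd order is the quotient of `H` by a central odd `Z₀`, both
meeting the derived groups trivially with `2`-group cokernels, then `C` is a quotient of `H` by a
subgroup of `Z₀` as soon as `|O|` divides `|Z₀|`.
-/

set_option autoImplicit false
set_option linter.style.haveILetI false

namespace Cfsg.Agent.H74.Wr

open Subgroup

variable {A : Type*} [Group A] [Finite A]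

theorem central_normal {B : Type*} [Group B] {Z : Subgroup B} (hZ : Z ≤ center B) : Z.Normal :=
  ⟨fun z hz g => by rwa [mem_center_iff.mp (hZ hz) g, mul_inv_cancel_right]⟩

/-- The retraction onto `Z`. -/
theorem exists_retraction {Z : Subgroup A} (hZ : Z ≤ center A) (hodd : Odd (Nat.card Z))
    (hd : Z ⊓ commutator A = ⊥) {k : ℕ} (hk : ∀ x : A, x ^ 2 ^ k ∈ Z ⊔ commutator A) :
    ∃ r : A →* Z, ∀ z : Z, r z = z := by
  classical
  haveI : (Z ⊔ commutator A).Normal :=
    haveI : Z.Normal := central_normal hZ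
    sup_normal Z (commutator A)
  set q := QuotientGroup.mk' (commutator A) with hq
  set f : Z →* A ⧸ commutator A := q.comp Z.subtype with hf
  have hfi : Function.Injective f := by
    rw [← MonoidHom.ker_eq_bot_iff, Subgroup.eq_bot_iff_forall]
    intro z hz
    have h1 : (z : A) ∈ commutator A := (QuotientGroup.eq_one_iff _).mp hz
    have h2 : (z : A) ∈ Z ⊓ commutator A := ⟨z.2, h1⟩
    rw [hd] at h2
    exact Subtype.ext h2
  -- the power map lands in the image
  have hmem : ∀ x : A, q x ^ 2 ^ k ∈ f.range := by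
    intro x
    haveI : Z.Normal := central_normal hZ
    have hx := hk x
    rw [← SetLike.mem_coe, Subgroup.normal_mul] at hx
    obtain ⟨z, hz, c, hc, e⟩ := Set.mem_mul.mp hx
    refine ⟨⟨z, hz⟩, ?_⟩
    have hc1 : q c = 1 := (QuotientGroup.eq_one_iff _).mpr hc
    calc f ⟨z, hz⟩ = q z * q c := by rw [hc1, mul_one]; rfl
      _ = q x ^ 2 ^ k := by rw [← map_mul, e, map_pow]
  let P : A →* f.range :=
    { toFun := fun x => ⟨q x ^ 2 ^ k, hmem x⟩
      map_one' := Subtype.ext (by simp)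
      map_mul' := fun x y => Subtype.ext (by
        have hcm : Commute (q x) (q y) := (Abelianization.commGroup A).mul_comm (q x) (q y)
        show q (x * y) ^ 2 ^ k = q x ^ 2 ^ k * q y ^ 2 ^ k
        rw [map_mul, hcm.mul_pow]) }
  letI : CommGroup Z :=
    { (inferInstance : Group Z) with
      mul_comm := fun a b => Subtype.ext ((mem_center_iff.mp (hZ a.2) b).symm) }
  have hcop : (Nat.card Z).Coprime (2 ^ k) :=
    Nat.Coprime.pow_right _ hodd.coprime_two_right
  set e := MonoidHom.ofInjective hfi with he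
  refine ⟨(zpowGroupHom (Nat.gcdB (Nat.card Z) (2 ^ k)) : Z →* Z).comp
    (e.symm.toMonoidHom.comp P), ?_⟩
  intro z
  have hP : e.symm (P z) = z ^ 2 ^ k := by
    rw [e.symm_apply_eq]
    refine Subtype.ext ?_
    show q (z : A) ^ 2 ^ k = f (z ^ 2 ^ k)
    rw [map_pow]; rfl
  have hb : (z : Z) ^ ((2 ^ k : ℕ) * Nat.gcdB (Nat.card Z) (2 ^ k) : ℤ) = z := by
    have h1 := Nat.gcd_eq_gcd_ab (Nat.card Z) (2 ^ k)
    rw [hcop.gcd_eq_one, Nat.cast_one] at h1
    have h2 : z ^ ((Nat.card Z : ℤ) * Nat.gcdA (Nat.card Z) (2 ^ k)) = 1 := by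
      rw [zpow_mul, zpow_natCast, pow_card_eq_one', one_zpow]
    calc z ^ ((2 ^ k : ℕ) * Nat.gcdB (Nat.card Z) (2 ^ k) : ℤ)
        = z ^ ((Nat.card Z : ℤ) * Nat.gcdA (Nat.card Z) (2 ^ k) +
            (2 ^ k : ℕ) * Nat.gcdB (Nat.card Z) (2 ^ k)) := by rw [zpow_add, h2, one_mul]
      _ = z := by rw [← h1, zpow_one]
  set b := Nat.gcdB (Nat.card Z) (2 ^ k) with hbdef
  rw [zpow_mul, zpow_natCast] at hb
  show e.symm (P z) ^ Nat.gcdB (Nat.card Z) (2 ^ k) = z
  rw [hP]; exact hb

variable {H C : Type*} [Group H] [Finite H] [Group C] [Finite C]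

/-- `C` is a quotient of `H` by a subgroup of `Z₀`. -/
theorem exists_quotient_iso {Z₀ : Subgroup H} (hZ : Z₀ ≤ center H) (hZo : Odd (Nat.card Z₀))
    (hZd : Z₀ ⊓ commutator H = ⊥) (hcyc : IsCyclic Z₀) {k : ℕ}
    (hk : ∀ x : H, x ^ 2 ^ k ∈ Z₀ ⊔ commutator H)
    (O : Subgroup C) [O.Normal] (hO : O ≤ center C) (hOd : O ⊓ commutator C = ⊥) (hOc : IsCyclic O)
    (hdvd : Nat.card O ∣ Nat.card Z₀) (f : H →* C ⧸ O) (hf : Function.Surjective f)
    (hker : f.ker = Z₀) :
    ∃ (Z : Subgroup H) (_ : Z.Normal), Z ≤ center H ∧ Odd (Nat.card Z) ∧ Nonempty (C ≃* H ⧸ Z) := by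
  classical
  have hOodd : Odd (Nat.card O) := hZo.of_dvd_nat hdvd
  have hkC : ∀ x : C, x ^ 2 ^ k ∈ O ⊔ commutator C := by
    intro x
    obtain ⟨h, hh⟩ := hf (QuotientGroup.mk x)
    haveI : Z₀.Normal := central_normal hZ
    have hx := hk h
    rw [← SetLike.mem_coe, Subgroup.normal_mul] at hx
    obtain ⟨z, hz, c, hc, e⟩ := Set.mem_mul.mp hx
    have hcm : f c ∈ (commutator C).map (QuotientGroup.mk' O) := by
      rw [commutator_def, Subgroup.map_commutator, Subgroup.map_top_of_surjective _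
        (QuotientGroup.mk'_surjective O), ← commutator_def]
      exact (commutator_def (C ⧸ O) ▸ (Subgroup.map_commutator (⊤ : Subgroup H) ⊤ f).trans_le
        (Subgroup.commutator_mono le_top le_top)) (mem_map_of_mem f hc)
    obtain ⟨c', hc', hcc⟩ := hcm
    have h1 : f (h ^ 2 ^ k) = QuotientGroup.mk' O c' := by
      rw [← e, map_mul, hcc, MonoidHom.mem_ker.mp (hker.symm ▸ hz), one_mul]
    rw [map_pow, hh] at h1
    have h2 : (QuotientGroup.mk (x ^ 2 ^ k) : C ⧸ O) = QuotientGroup.mk c' := by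
      simpa using h1
    rw [QuotientGroup.eq] at h2
    have h3 : x ^ 2 ^ k = c' * ((x ^ 2 ^ k)⁻¹ * c')⁻¹ := by group
    rw [h3]
    exact mul_mem (mem_sup_right hc') (inv_mem (mem_sup_left h2))
  obtain ⟨rH, hrH⟩ := exists_retraction hZ hZo hZd hk
  obtain ⟨rC, hrC⟩ := exists_retraction hO hOodd hOd hkC
  -- a surjection `Z₀ → O`
  haveI := hcyc
  haveI := hOc
  obtain ⟨a, ha⟩ := IsCyclic.exists_monoid_generator (α := Z₀)
  obtain ⟨b, hb⟩ := IsCyclic.exists_monoid_generator (α := O)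
  have hgen : ∀ z : Z₀, z ∈ zpowers a := fun z => by
    obtain ⟨i, hi⟩ := ha z
    exact ⟨i, by show _ ^ (i : ℤ) = z; rw [zpow_natCast]; exact hi⟩
  have hordb : orderOf b ∣ orderOf a := by
    rw [orderOf_eq_card_of_forall_mem_zpowers hgen,
      orderOf_eq_card_of_forall_mem_zpowers (g := b) fun z => by
        obtain ⟨i, hi⟩ := hb z
        exact ⟨i, by show _ ^ (i : ℤ) = z; rw [zpow_natCast]; exact hi⟩]
    exact hdvd
  let σ : Z₀ →* O := monoidHomOfForallMemZpowers hgen hordb
  have hσ : Function.Surjective σ := by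
    intro z
    obtain ⟨i, hi⟩ := hb z
    refine ⟨a ^ i, ?_⟩
    rw [map_pow, monoidHomOfForallMemZpowers_apply_gen]; exact hi
  -- `C → C/O × O` is an isomorphism
  let eC : C →* (C ⧸ O) × O := (QuotientGroup.mk' O).prod rC
  have heC : Function.Bijective eC := by
    refine ⟨?_, ?_⟩
    · rw [← MonoidHom.ker_eq_bot_iff, Subgroup.eq_bot_iff_forall]
      intro x hx
      have h1 := congrArg Prod.fst hx
      have h2 := congrArg Prod.snd hx
      have hxO : x ∈ O := (QuotientGroup.eq_one_iff x).mp h1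
      have h3 := hrC ⟨x, hxO⟩
      change rC x = 1 at h2
      rw [h2] at h3
      exact (Subtype.ext_iff.mp h3).symm
    · rintro ⟨y, o⟩
      obtain ⟨x, rfl⟩ := QuotientGroup.mk'_surjective O y
      refine ⟨x * (((rC x)⁻¹ * o : O) : C), ?_⟩
      refine Prod.ext ?_ ?_
      · show QuotientGroup.mk' O _ = _
        rw [map_mul, show QuotientGroup.mk' O (((rC x)⁻¹ * o : O) : C) = 1 from
          (QuotientGroup.eq_one_iff _).mpr ((rC x)⁻¹ * o).2, mul_one]
      · show rC _ = o
        rw [map_mul, hrC, mul_inv_cancel_left]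
  let g : H →* (C ⧸ O) × O := f.prod (σ.comp rH)
  have hg : Function.Surjective g := by
    rintro ⟨y, o⟩
    obtain ⟨h, rfl⟩ := hf y
    obtain ⟨z, hz⟩ := hσ ((σ (rH h))⁻¹ * o)
    refine ⟨h * (z : H), Prod.ext ?_ ?_⟩
    · show f _ = _
      have hzk : (z : H) ∈ f.ker := by rw [hker]; exact z.2
      rw [map_mul, MonoidHom.mem_ker.mp hzk, mul_one]
    · show σ (rH _) = o
      rw [map_mul, hrH, map_mul, hz, mul_inv_cancel_left]
  have hle : g.ker ≤ Z₀ := by
    intro x hx
    rw [← hker]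
    exact congrArg Prod.fst hx
  refine ⟨g.ker, inferInstance, hle.trans hZ, hZo.of_dvd_nat (card_dvd_of_le hle), ⟨?_⟩⟩
  exact (MulEquiv.ofBijective eC heC).trans (QuotientGroup.quotientKerEquivOfSurjective g hg).symm

end Cfsg.Agent.H74.Wr
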