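import Cfsg.Agent.H84.WR.TableInner
import Cfsg.Agent.CharBasic.Complete
import Mathlib.GroupTheory.FiniteAbelian.Duality

/-!
# Completeness of the list of a table and the bound for the odd characters

Every irreducible character of a group with a table is one of the listed ones.  For one that is odd at the
central involution `T(e, e)`, `e = i * i`, the real part at `T(i, 1)` is at most a `|Q + 1|`-th of the degree.
-/

set_option autoImplicit false
set_option linter.unusedSectionVars false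
set_option linter.style.haveILetI false

namespace Cfsg.Agent.H36.TwoTori

open Finset

universe v

variable {H A B : Type v} [Group H] [Fintype H] [CommGroup A] [Fintype A] [CommGroup B] [Fintype B]
  {Q : ℤ} (D : Table H A B Q)

namespace Table

/-- One of the listed characters. -/
def Listed (f : H → ℂ) : Prop :=
  (∃ α, f = D.lin α) ∨ (∃ α, f = (D.σ : ℂ) • D.st α) ∨
    (∃ α β, α ≠ β ∧ f = (D.σ : ℂ) • D.ps α β) ∨
    ∃ θ : B →* ℂˣ, (∃ y, θ (y ^ Q) ≠ θ y) ∧ f = (D.σ : ℂ) • D.cu θ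

include D in
theorem card_int : (Nat.card H : ℂ) = (Nat.card A : ℂ) * (Q : ℂ) ^ 2 +
    (Q : ℂ) * ((Q : ℂ) + 1) / 2 * ((Nat.card A : ℂ) * Nat.card A - Nat.card A) +
    (Q : ℂ) * ((Q : ℂ) - 1) / 2 * ((Nat.card B : ℂ) - Nat.card A) := by
  classical
  have h := D.sum_eq (fun _ => 1) fun _ _ => rfl
  have h1 : ∑ p : A × A, (if p.1 = p.2 then (0 : ℂ) else 1) =
      (Nat.card A : ℂ) * Nat.card A - Nat.card A := by
    rw [Fintype.sum_prod_type]
    simp [Finset.sum_ite, Finset.filter_ne, Finset.card_erase_of_mem, Nat.card_eq_fintype_card,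
      Nat.cast_sub Fintype.card_pos]
  have h2 : ∑ y : B, (if y ∈ D.incl.range then (0 : ℂ) else 1) = (Nat.card B : ℂ) - Nat.card A := by
    have hsum : ∑ y : B, (if y ∈ D.incl.range then (0 : ℂ) else 1) =
        ∑ y : B, ((1 : ℂ) - if y ∈ D.incl.range then 1 else 0) :=
      Finset.sum_congr rfl fun y _ => by split_ifs <;> norm_num
    rw [hsum, Finset.sum_sub_distrib, Finset.sum_boole, Finset.sum_const, Finset.card_univ, nsmul_one,
      ← Fintype.card_subtype, ← Nat.card_eq_fintype_card, ← Nat.card_eq_fintype_card,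
      Nat.card_congr (MonoidHom.ofInjective D.incl_injective).toEquiv]
  simp only [mul_one, h1, h2, Finset.sum_const, Finset.card_univ, nsmul_eq_mul,
    ← Nat.card_eq_fintype_card] at h
  linear_combination h

/-- An irreducible character of a list. -/
def irrOf {f : H → ℂ} (h : Cfsg.IsIrrCharacter H f) : Cfsg.IrrCharacter H := ⟨f, h⟩

/-- Every irreducible character is listed. -/
theorem irr_cases (ψ : Cfsg.IrrCharacter H) : D.Listed (ψ : H → ℂ) := by
  classical
  by_contra hψ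
  simp only [Listed, not_or, not_exists, not_and] at hψ
  obtain ⟨n1, n2, n3, n4⟩ := hψ
  have h3 := D.three_le
  haveI : Finite (A →* ℂˣ) := Nat.finite_of_card_ne_zero (by
    rw [CommGroup.card_monoidHom_of_hasEnoughRootsOfUnity]; exact Nat.card_pos.ne')
  haveI : Finite (B →* ℂˣ) := Nat.finite_of_card_ne_zero (by
    rw [CommGroup.card_monoidHom_of_hasEnoughRootsOfUnity]; exact Nat.card_pos.ne')
  haveI := Fintype.ofFinite (A →* ℂˣ)
  haveI := Fintype.ofFinite (B →* ℂˣ)
  have hA : Fintype.card (A →* ℂˣ) = Nat.card A := by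
    rw [← Nat.card_eq_fintype_card, CommGroup.card_monoidHom_of_hasEnoughRootsOfUnity]
  have hB : Fintype.card (B →* ℂˣ) = Nat.card B := by
    rw [← Nat.card_eq_fintype_card, CommGroup.card_monoidHom_of_hasEnoughRootsOfUnity]
  let Mov : Finset (B →* ℂˣ) := Finset.univ.filter fun θ => ∃ y, θ (y ^ Q) ≠ θ y
  let Off : Finset ((A →* ℂˣ) × (A →* ℂˣ)) := Finset.univ.filter fun p => p.1 ≠ p.2
  let S1 : Finset (Cfsg.IrrCharacter H) := Finset.univ.image fun α => irrOf (D.irr_lin α)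
  let S2 : Finset (Cfsg.IrrCharacter H) := Finset.univ.image fun α => irrOf (D.irr_st α)
  let S3 : Finset (Cfsg.IrrCharacter H) :=
    Finset.univ.filter fun χ => ∃ p ∈ Off, (χ : H → ℂ) = (D.σ : ℂ) • D.ps p.1 p.2
  let S4 : Finset (Cfsg.IrrCharacter H) :=
    Finset.univ.filter fun χ => ∃ θ ∈ Mov, (χ : H → ℂ) = (D.σ : ℂ) • D.cu θ
  have d1 : ∀ χ ∈ S1, (χ : H → ℂ) 1 = 1 := fun χ hχ => by
    obtain ⟨α, -, rfl⟩ := Finset.mem_image.1 hχ
    exact D.lin_at_one α
  have d2 : ∀ χ ∈ S2, (χ : H → ℂ) 1 = (D.σ : ℂ) * Q := fun χ hχ => by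
    obtain ⟨α, -, rfl⟩ := Finset.mem_image.1 hχ
    show ((D.σ : ℂ) • D.st α) 1 = _
    rw [Pi.smul_apply, smul_eq_mul, D.st_at_one]
  have d3 : ∀ χ ∈ S3, (χ : H → ℂ) 1 = (D.σ : ℂ) * ((Q : ℂ) + 1) := fun χ hχ => by
    obtain ⟨p, -, e⟩ := (Finset.mem_filter.1 hχ).2
    rw [e, Pi.smul_apply, smul_eq_mul, D.ps_at_one]
  have d4 : ∀ χ ∈ S4, (χ : H → ℂ) 1 = (D.σ : ℂ) * ((Q : ℂ) - 1) := fun χ hχ => by
    obtain ⟨θ, -, e⟩ := (Finset.mem_filter.1 hχ).2
    rw [e, Pi.smul_apply, smul_eq_mul, D.cu_at_one]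
  have c1 : S1.card = Nat.card A := by
    rw [Finset.card_image_of_injective _ fun α β e => D.lin_injective (congrArg Subtype.val e),
      Finset.card_univ, hA]
  have c2 : S2.card = Nat.card A := by
    rw [Finset.card_image_of_injective _ fun α β e => D.st_injective (smul_right_injective _ D.sigma_ne
      (congrArg Subtype.val e)), Finset.card_univ, hA]
  have c3 : Nat.card A * Nat.card A ≤ 2 * S3.card + Nat.card A := by
    have hall := Finset.card_filter_add_card_filter_not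
      (s := (Finset.univ : Finset ((A →* ℂˣ) × (A →* ℂˣ)))) (p := fun p => p.1 ≠ p.2)
    rw [Finset.card_univ, Fintype.card_prod, hA] at hall
    have hdiag : (Finset.univ.filter fun p : (A →* ℂˣ) × (A →* ℂˣ) => ¬ p.1 ≠ p.2).card ≤ Nat.card A := by
      rw [← hA, ← Finset.card_univ]
      refine Finset.card_le_card_of_injOn (fun p => p.1) (fun _ _ => Finset.mem_univ _) ?_
      intro p hp q hq e
      simp only [Finset.coe_filter, Finset.mem_univ, true_and, ne_eq, not_not, Set.mem_ofPred_eq] at hp hq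
      exact Prod.ext e (hp.symm.trans (e.trans hq))
    let φ : (A →* ℂˣ) × (A →* ℂˣ) → Cfsg.IrrCharacter H := fun p =>
      if h : p.1 ≠ p.2 then irrOf (D.irr_ps _ _ h) else ψ
    have hφ : Off.card ≤ 2 * S3.card := by
      refine Finset.card_le_mul_card_image_of_maps_to (f := φ) (fun p hp => ?_) 2 fun χ hχ => ?_
      · have hp' := (Finset.mem_filter.1 hp).2
        refine Finset.mem_filter.2 ⟨Finset.mem_univ _, p, hp, ?_⟩
        simp only [φ, dif_pos hp']
        rfl
      · obtain ⟨q, hq, eq⟩ := (Finset.mem_filter.1 hχ).2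
        refine le_trans (Finset.card_le_card (t := {q, (q.2, q.1)}) fun p hp => ?_) Finset.card_le_two
        obtain ⟨hp, e⟩ := Finset.mem_filter.1 hp
        simp only [φ, dif_pos (Finset.mem_filter.1 hp).2] at e
        have e' : (D.σ : ℂ) • D.ps p.1 p.2 = (D.σ : ℂ) • D.ps q.1 q.2 := (congrArg Subtype.val e).trans eq
        rcases D.ps_eq (smul_right_injective _ D.sigma_ne e') with ⟨a1, a2⟩ | ⟨a1, a2⟩
        · exact Finset.mem_insert.2 (Or.inl (Prod.ext a1 a2))
        · exact Finset.mem_insert.2 (Or.inr (Finset.mem_singleton.2 (Prod.ext a1 a2)))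
    change Off.card + _ = _ at hall
    omega
  have c4 : Nat.card B ≤ 2 * S4.card + Nat.card A := by
    have hall := Finset.card_filter_add_card_filter_not
      (s := (Finset.univ : Finset (B →* ℂˣ))) (p := fun θ => ∃ y, θ (y ^ Q) ≠ θ y)
    rw [Finset.card_univ, hB] at hall
    haveI := D.cyclicB
    haveI : IsCyclic (B →* ℂˣ) := by
      obtain ⟨E⟩ := CommGroup.monoidHom_mulEquiv_of_hasEnoughRootsOfUnity B ℂ
      exact isCyclic_of_surjective E.symm.toMonoidHom E.symm.surjective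
    have hfix : (Finset.univ.filter fun θ : B →* ℂˣ => ¬ ∃ y, θ (y ^ Q) ≠ θ y).card ≤ Nat.card A := by
      refine le_trans (Finset.card_le_card fun θ hθ => ?_)
        (IsCyclic.card_pow_eq_one_le (α := B →* ℂˣ) (Nat.card_pos : 0 < Nat.card A))
      simp only [Finset.mem_filter, Finset.mem_univ, true_and, not_exists, ne_eq, not_not] at hθ ⊢
      refine MonoidHom.ext fun y => ?_
      rw [MonoidHom.pow_apply, MonoidHom.one_apply, ← zpow_natCast, D.cardA, mul_comm, zpow_mul]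
      have h1 : θ y ^ (Q - 1) = 1 := by
        rw [zpow_sub, zpow_one, ← map_zpow, hθ y, mul_inv_cancel]
      rw [h1, one_zpow]
    let φ : (B →* ℂˣ) → Cfsg.IrrCharacter H := fun θ =>
      if h : ∃ y, θ (y ^ Q) ≠ θ y then irrOf (D.irr_cu _ h) else ψ
    have hφ : Mov.card ≤ 2 * S4.card := by
      refine Finset.card_le_mul_card_image_of_maps_to (f := φ) (fun θ hθ => ?_) 2 fun χ hχ => ?_
      · have hθ' := (Finset.mem_filter.1 hθ).2
        refine Finset.mem_filter.2 ⟨Finset.mem_univ _, θ, hθ, ?_⟩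
        simp only [φ, dif_pos hθ']
        rfl
      · obtain ⟨q, hq, eq⟩ := (Finset.mem_filter.1 hχ).2
        refine le_trans (Finset.card_le_card
          (t := {q, q.comp ⟨⟨fun y => y ^ Q, one_zpow Q⟩, fun y z => mul_zpow y z Q⟩}) fun θ hθ => ?_)
          Finset.card_le_two
        obtain ⟨hθ, e⟩ := Finset.mem_filter.1 hθ
        simp only [φ, dif_pos (Finset.mem_filter.1 hθ).2] at e
        have e' : (D.σ : ℂ) • D.cu θ = (D.σ : ℂ) • D.cu q := (congrArg Subtype.val e).trans eq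
        rcases D.cu_eq (smul_right_injective _ D.sigma_ne e') with a1 | a1
        · exact Finset.mem_insert.2 (Or.inl a1)
        · exact Finset.mem_insert.2 (Or.inr (Finset.mem_singleton.2 (MonoidHom.ext a1)))
    change Mov.card + _ = _ at hall
    omega
  -- the degrees in integers
  obtain ⟨n, hn0, hn⟩ := CharBasic.IsIrr.exists_degree ψ.2
  have hdeg : ∀ χ : Cfsg.IrrCharacter H, ∃ k : ℕ, (χ : H → ℂ) 1 = k := fun χ =>
    (CharBasic.IsIrr.exists_degree χ.2).imp fun k hk => hk.2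
  choose dg hdg using hdeg
  have hsq : ((∑ χ : Cfsg.IrrCharacter H, (dg χ : ℤ) ^ 2 : ℤ) : ℂ) = (Nat.card H : ℂ) := by
    push_cast
    rw [← CharBasic.sum_sq_degree]
    exact Finset.sum_congr rfl fun χ _ => by rw [hdg]
  have e1 : ∀ χ ∈ S1, (dg χ : ℤ) = 1 := fun χ hχ => by
    have h := (hdg χ).symm.trans (d1 χ hχ)
    exact_mod_cast h
  have e2 : ∀ χ ∈ S2, (dg χ : ℤ) = D.σ * Q := fun χ hχ => by
    have h := (hdg χ).symm.trans (d2 χ hχ)
    exact_mod_cast h
  have e3 : ∀ χ ∈ S3, (dg χ : ℤ) = D.σ * (Q + 1) := fun χ hχ => by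
    have h := (hdg χ).symm.trans (d3 χ hχ)
    exact_mod_cast h
  have e4 : ∀ χ ∈ S4, (dg χ : ℤ) = D.σ * (Q - 1) := fun χ hχ => by
    have h := (hdg χ).symm.trans (d4 χ hχ)
    exact_mod_cast h
  have hσ := D.σ_pm
  have hdis : ∀ {S T : Finset (Cfsg.IrrCharacter H)} {x y : ℤ}, (∀ χ ∈ S, (dg χ : ℤ) = x) →
      (∀ χ ∈ T, (dg χ : ℤ) = y) → x ≠ y → Disjoint S T := fun hS hT hne =>
    Finset.disjoint_left.2 fun χ hs ht => hne ((hS χ hs).symm.trans (hT χ ht))
  have x12 : (1 : ℤ) ≠ D.σ * Q := by omega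
  have x13 : (1 : ℤ) ≠ D.σ * (Q + 1) := by
    rcases hσ with h | h <;> rw [h] at h3 ⊢ <;> omega
  have x14 : (1 : ℤ) ≠ D.σ * (Q - 1) := by
    rcases hσ with h | h <;> rw [h] at h3 ⊢ <;> omega
  have x23 : D.σ * Q ≠ D.σ * (Q + 1) := by rcases hσ with h | h <;> rw [h] <;> omega
  have x24 : D.σ * Q ≠ D.σ * (Q - 1) := by rcases hσ with h | h <;> rw [h] <;> omega
  have x34 : D.σ * (Q + 1) ≠ D.σ * (Q - 1) := by rcases hσ with h | h <;> rw [h] <;> omega
  have hno : ψ ∉ S1 ∪ S2 ∪ S3 ∪ S4 := by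
    simp only [Finset.mem_union, not_or]
    refine ⟨⟨⟨fun h => ?_, fun h => ?_⟩, fun h => ?_⟩, fun h => ?_⟩
    · obtain ⟨α, -, e⟩ := Finset.mem_image.1 h
      exact n1 α (congrArg Subtype.val e).symm
    · obtain ⟨α, -, e⟩ := Finset.mem_image.1 h
      exact n2 α (congrArg Subtype.val e).symm
    · obtain ⟨p, hp, e⟩ := (Finset.mem_filter.1 h).2
      exact n3 p.1 p.2 (Finset.mem_filter.1 hp).2 e
    · obtain ⟨θ, hθ, e⟩ := (Finset.mem_filter.1 h).2
      exact n4 θ (Finset.mem_filter.1 hθ).2 e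
  have hconst : ∀ {S : Finset (Cfsg.IrrCharacter H)} {x : ℤ}, (∀ χ ∈ S, (dg χ : ℤ) = x) →
      ∑ χ ∈ S, (dg χ : ℤ) ^ 2 = S.card * x ^ 2 := fun hS => by
    rw [Finset.sum_congr rfl fun χ hχ => by rw [hS χ hχ], Finset.sum_const, nsmul_eq_mul]
  have hle : ((dg ψ : ℤ) ^ 2 + ((S1.card : ℤ) * 1 + S2.card * (D.σ * Q) ^ 2 +
      S3.card * (D.σ * (Q + 1)) ^ 2 + S4.card * (D.σ * (Q - 1)) ^ 2)) ≤
      ∑ χ : Cfsg.IrrCharacter H, (dg χ : ℤ) ^ 2 := by
    refine le_trans (le_of_eq ?_) (Finset.sum_le_sum_of_subset_of_nonneg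
      (Finset.subset_univ (insert ψ (S1 ∪ S2 ∪ S3 ∪ S4))) fun χ _ _ => sq_nonneg _)
    rw [Finset.sum_insert hno,
      Finset.sum_union (Finset.disjoint_union_left.2 ⟨Finset.disjoint_union_left.2
        ⟨hdis e1 e4 x14, hdis e2 e4 x24⟩, hdis e3 e4 x34⟩),
      Finset.sum_union (Finset.disjoint_union_left.2 ⟨hdis e1 e3 x13, hdis e2 e3 x23⟩),
      Finset.sum_union (hdis e1 e2 x12),
      hconst e1, hconst e2, hconst e3, hconst e4]
    ring
  have hpos : (1 : ℤ) ≤ (dg ψ : ℤ) ^ 2 := by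
    have : dg ψ = n := by exact_mod_cast (hdg ψ).symm.trans hn
    rw [this]
    exact_mod_cast Nat.one_le_pow 2 n hn0
  have hord : (Nat.card H : ℤ) * 2 = 2 * (Nat.card A : ℤ) * Q ^ 2 +
      Q * (Q + 1) * ((Nat.card A : ℤ) * Nat.card A - Nat.card A) +
      Q * (Q - 1) * ((Nat.card B : ℤ) - Nat.card A) := by
    have h := D.card_int
    have h' : ((Nat.card H : ℤ) : ℂ) * 2 = ((2 * (Nat.card A : ℤ) * Q ^ 2 +
      Q * (Q + 1) * ((Nat.card A : ℤ) * Nat.card A - Nat.card A) +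
      Q * (Q - 1) * ((Nat.card B : ℤ) - Nat.card A) : ℤ) : ℂ) := by
      push_cast
      linear_combination 2 * h
    exact_mod_cast h'
  have hsum : (∑ χ : Cfsg.IrrCharacter H, (dg χ : ℤ) ^ 2) = (Nat.card H : ℤ) := by exact_mod_cast hsq
  rw [hsum, c1, c2] at hle
  have i3 : (Nat.card A : ℤ) * Nat.card A ≤ 2 * (S3.card : ℤ) + Nat.card A := by exact_mod_cast c3
  have i4 : (Nat.card B : ℤ) ≤ 2 * (S4.card : ℤ) + Nat.card A := by exact_mod_cast c4
  have m3 := mul_le_mul_of_nonneg_right i3 (sq_nonneg (Q + 1))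
  have m4 := mul_le_mul_of_nonneg_right i4 (sq_nonneg (Q - 1))
  have hs2 : D.σ ^ 2 = 1 := by rcases hσ with h | h <;> rw [h] <;> norm_num
  rw [mul_pow, mul_pow, mul_pow, hs2, one_mul, one_mul, one_mul] at hle
  rw [D.cardA] at hord m3
  rw [D.cardA, D.cardB] at m4
  rw [D.cardB] at hord
  rw [D.cardA] at hle
  rcases hσ with h | h <;> rw [h] at hord m3 m4 hle <;> nlinarith

/-- The bound for the characters that are odd at the central involution. -/
theorem odd_bound (ψ : Cfsg.IrrCharacter H) {i : A} (hi : orderOf i = 4)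
    (hodd : (ψ : H → ℂ) (D.T (i * i, i * i)) = -(ψ : H → ℂ) 1) :
    |((ψ : H → ℂ) (D.T (i, 1))).re| * ((|Q + 1| : ℤ) : ℝ) ≤ ((ψ : H → ℂ) 1).re := by
  have hi1 : i ≠ 1 := fun e => by rw [e, orderOf_one] at hi; omega
  have hi4 : i * i * (i * i) = 1 := by
    rw [← sq, ← sq, ← pow_mul, show 2 * 2 = orderOf i from hi.symm, pow_orderOf_eq_one]
  have hsq : ∀ (α : A →* ℂˣ) (a : A), (α (a * a) : ℂ) = (α a : ℂ) * α a := fun α a => by
    rw [map_mul, Units.val_mul]
  have hone : ∀ α : A →* ℂˣ, (α (i * i) : ℂ) * α (i * i) = 1 := fun α => by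
    rw [← Units.val_mul, ← map_mul, hi4, map_one, Units.val_one]
  have h3 := D.three_le
  have hQ1 : (Q : ℂ) + 1 ≠ 0 := by
    have : Q + 1 ≠ 0 := by rcases D.σ_pm with hh | hh <;> rw [hh] at h3 <;> omega
    exact_mod_cast this
  have hQ0 : (Q : ℂ) ≠ 0 := by
    have : Q ≠ 0 := by rcases D.σ_pm with hh | hh <;> rw [hh] at h3 <;> omega
    exact_mod_cast this
  rcases D.irr_cases ψ with ⟨α, e⟩ | ⟨α, e⟩ | ⟨α, β, -, e⟩ | ⟨θ, -, e⟩ <;> rw [e] at hodd ⊢
  · exfalso
    rw [D.lin_centre, D.lin_at_one, hone] at hodd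
    norm_num at hodd
  · exfalso
    simp only [Pi.smul_apply, smul_eq_mul, D.st_centre, D.st_at_one, hone, mul_one] at hodd
    exact hQ0 ((mul_eq_zero.1 (self_eq_neg.1 hodd)).resolve_left D.sigma_ne)
  · simp only [Pi.smul_apply, smul_eq_mul, D.ps_centre, D.ps_at_one] at hodd ⊢
    rw [D.ps_T _ _ _ _ hi1]
    simp only [map_one, Units.val_one, mul_one, one_mul]
    have hprod : (α (i * i) : ℂ) * β (i * i) = -1 :=
      mul_left_cancel₀ (mul_ne_zero D.sigma_ne hQ1) (by linear_combination hodd)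
    have key : ∀ x y : ℂ, x * x = 1 → y * y = -1 → |(x + y).re| = 1 := by
      intro x y hx hy
      have hy' : y.re = 0 := by
        have e1 := congrArg Complex.re hy
        have e2 := congrArg Complex.im hy
        simp only [Complex.mul_re, Complex.mul_im, Complex.neg_re, Complex.one_re, Complex.neg_im,
          Complex.one_im, neg_zero] at e1 e2
        rcases mul_eq_zero.1 (show y.re * y.im = 0 by linarith) with h | h
        · exact h
        · rw [h] at e1; nlinarith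
      rcases mul_self_eq_one_iff.1 hx with h | h <;> simp [h, hy']
    have hv : |((α i : ℂ) + β i).re| = 1 := by
      rcases mul_self_eq_one_iff.1 (hone α) with h | h
      · exact key _ _ (by rw [← hsq, h]) (by rw [← hsq]; rw [h, one_mul] at hprod; exact hprod)
      · rw [add_comm]
        refine key _ _ ?_ (by rw [← hsq, h])
        rw [← hsq]
        rw [h] at hprod
        linear_combination -hprod
    rcases D.σ_pm with hh | hh <;> rw [hh] at h3 ⊢
    · rw [Int.cast_one, one_mul, one_mul, hv, one_mul, abs_of_pos (by omega : 0 < Q + 1)]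
      simp
    · rw [abs_of_neg (by omega : Q + 1 < 0)]
      simp only [Int.cast_neg, Int.cast_one, neg_mul, one_mul, Complex.neg_re, abs_neg, hv]
      simp
  · simp only [Pi.smul_apply, smul_eq_mul, D.cu_at_one, D.cu_T _ _ _ hi1, mul_zero, Complex.zero_re,
      abs_zero, zero_mul]
    rcases D.σ_pm with hh | hh <;> rw [hh] at h3 ⊢ <;> simp <;> norm_cast <;> omega

/-- The same on the other axis. -/
theorem odd_bound_swap (ψ : Cfsg.IrrCharacter H) {i : A} (hi : orderOf i = 4)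
    (hodd : (ψ : H → ℂ) (D.T (i * i, i * i)) = -(ψ : H → ℂ) 1) :
    |((ψ : H → ℂ) (D.T (1, i))).re| * ((|Q + 1| : ℤ) : ℝ) ≤ ((ψ : H → ℂ) 1).re := by
  obtain ⟨w, hw⟩ := D.swapT
  have h := CharBasic.IsIrr.isClassFunction ψ.2 (D.T (i, 1)) w
  rw [hw] at h
  rw [h]
  exact D.odd_bound ψ hi hodd

end Table

end Cfsg.Agent.H36.TwoTori
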