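import Cfsg.Agent.H74.Wr.TableBound
import Cfsg.Agent.CharInduce.Ops

/-!
# Linear characters of a table: class functions are fixed by four families of values, and twists permute the list
-/

set_option autoImplicit false
set_option linter.unusedSectionVars false

namespace Cfsg.Agent.H36.TwoTori

universe v

variable {H A B : Type v} [Group H] [Fintype H] [CommGroup A] [Fintype A] [CommGroup B] [Fintype B]
  {Q : ℤ} (D : Table H A B Q)

namespace Table

include D in
/-- Two class functions with the same values on the representatives are equal. -/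
theorem ext_fun {f g : H → ℂ} (hf : Cfsg.IsClassFunction H f) (hg : Cfsg.IsClassFunction H g)
    (h1 : ∀ a, f (D.T (a, a)) = g (D.T (a, a))) (h2 : ∀ a, f (D.T (a, a) * D.uni) = g (D.T (a, a) * D.uni))
    (h3 : ∀ a b, a ≠ b → f (D.T (a, b)) = g (D.T (a, b)))
    (h4 : ∀ y, y ∉ D.incl.range → f (D.S y) = g (D.S y)) : f = g := by
  funext x
  have key : ∀ {z : H}, IsConj z x → f z = g z → f x = g x := fun {z} hc e => by
    obtain ⟨c, rfl⟩ := isConj_iff.1 hc
    rw [hf z c, hg z c, e]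
  rcases D.classes x with ⟨a, rfl⟩ | ⟨a, hc⟩ | ⟨a, b, hab, hc⟩ | ⟨y, hy, hc⟩
  exacts [h1 a, key hc (h2 a), key hc (h3 a b hab), key hc (h4 y hy)]

theorem isClassFunction_lin (α : A →* ℂˣ) : Cfsg.IsClassFunction H (D.lin α) :=
  CharBasic.IsIrr.isClassFunction (D.irr_lin α)

theorem isClassFunction_st (α : A →* ℂˣ) : Cfsg.IsClassFunction H (D.st α) := fun g h =>
  mul_left_cancel₀ D.sigma_ne (CharBasic.IsIrr.isClassFunction (D.irr_st α) g h)

theorem isClassFunction_ps (α β : A →* ℂˣ) (hab : α ≠ β) : Cfsg.IsClassFunction H (D.ps α β) := fun g h =>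
  mul_left_cancel₀ D.sigma_ne (CharBasic.IsIrr.isClassFunction (D.irr_ps α β hab) g h)

theorem isClassFunction_cu (θ : B →* ℂˣ) (hθ : ∃ y, θ (y ^ Q) ≠ θ y) : Cfsg.IsClassFunction H (D.cu θ) :=
  fun g h => mul_left_cancel₀ D.sigma_ne (CharBasic.IsIrr.isClassFunction (D.irr_cu θ hθ) g h)

theorem isClassFunction_mul {f g : H → ℂ} (hf : Cfsg.IsClassFunction H f) (hg : Cfsg.IsClassFunction H g) :
    Cfsg.IsClassFunction H (fun x => f x * g x) := fun x y => by simp only [hf x y, hg x y]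

/-- A linear character is a homomorphism. -/
theorem exists_linHom (α : A →* ℂˣ) : ∃ l : H →* ℂˣ, ∀ h, D.lin α h = (l h : ℂ) :=
  CharInduce.IsChar.exists_hom_of_degree_one (CharBasic.IsIrr.isCharacter (D.irr_lin α)) (D.lin_at_one α)

/-- The homomorphism of a linear character. -/
noncomputable def linHom (α : A →* ℂˣ) : H →* ℂˣ := (D.exists_linHom α).choose

theorem linHom_coe (α : A →* ℂˣ) (h : H) : (D.linHom α h : ℂ) = D.lin α h :=
  ((D.exists_linHom α).choose_spec h).symm

theorem lin_mul (α β : A →* ℂˣ) : (fun x => D.lin α x * D.lin β x) = D.lin (α * β) := by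
  refine D.ext_fun (isClassFunction_mul (D.isClassFunction_lin α) (D.isClassFunction_lin β))
    (D.isClassFunction_lin _) (fun a => ?_) (fun a => ?_) (fun a b hab => ?_) fun y hy => ?_
  · simp only [D.lin_centre, MonoidHom.mul_apply, Units.val_mul]; ring
  · simp only [D.lin_uni, MonoidHom.mul_apply, Units.val_mul]; ring
  · simp only [D.lin_T _ _ _ hab, MonoidHom.mul_apply, Units.val_mul]; ring
  · simp only [D.lin_S _ _ hy, MonoidHom.mul_apply, Units.val_mul]

theorem lin_one : D.lin 1 = fun _ => 1 := by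
  refine D.ext_fun (D.isClassFunction_lin _) (fun _ _ => rfl) (fun a => ?_) (fun a => ?_) (fun a b hab => ?_)
    fun y hy => ?_
  · simp [D.lin_centre]
  · simp [D.lin_uni]
  · simp [D.lin_T _ _ _ hab]
  · simp [D.lin_S _ _ hy]

theorem lin_mul_st (γ α : A →* ℂˣ) : (fun x => D.lin γ x * D.st α x) = D.st (γ * α) := by
  refine D.ext_fun (isClassFunction_mul (D.isClassFunction_lin γ) (D.isClassFunction_st α))
    (D.isClassFunction_st _) (fun a => ?_) (fun a => ?_) (fun a b hab => ?_) fun y hy => ?_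
  · simp only [D.lin_centre, D.st_centre, MonoidHom.mul_apply, Units.val_mul]; ring
  · simp only [D.st_uni, mul_zero]
  · simp only [D.lin_T _ _ _ hab, D.st_T _ _ _ hab, MonoidHom.mul_apply, Units.val_mul]; ring
  · simp only [D.lin_S _ _ hy, D.st_S _ _ hy, MonoidHom.mul_apply, Units.val_mul]; ring

theorem lin_mul_ps (γ α β : A →* ℂˣ) (hab : α ≠ β) :
    (fun x => D.lin γ x * D.ps α β x) = D.ps (γ * α) (γ * β) := by
  refine D.ext_fun (isClassFunction_mul (D.isClassFunction_lin γ) (D.isClassFunction_ps α β hab))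
    (D.isClassFunction_ps _ _ (by simpa using hab)) (fun a => ?_) (fun a => ?_) (fun a b hab => ?_) fun y hy => ?_
  · simp only [D.lin_centre, D.ps_centre, MonoidHom.mul_apply, Units.val_mul]; ring
  · simp only [D.lin_uni, D.ps_uni, MonoidHom.mul_apply, Units.val_mul]; ring
  · simp only [D.lin_T _ _ _ hab, D.ps_T _ _ _ _ hab, MonoidHom.mul_apply, Units.val_mul]; ring
  · simp only [D.ps_S _ _ _ hy, mul_zero]

include D in
theorem zpow_subQ (a : A) : a ^ (Q + 1) = a * a := by
  refine D.incl_injective ?_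
  rw [map_zpow, zpow_add, zpow_one, D.frob_incl, map_mul]

theorem norm_incl (a : A) : D.norm (D.incl a) = a * a :=
  D.incl_injective (by rw [D.incl_norm, ← map_zpow, D.zpow_subQ])

include D in
theorem frob_A (a : A) : a ^ Q = a :=
  D.incl_injective (by rw [map_zpow, D.frob_incl])

theorem norm_frob (y : B) : D.norm (y ^ Q) = D.norm y := by rw [map_zpow, D.frob_A]

/-- The twist of a parameter of a cuspidal character. -/
def twistB (γ : A →* ℂˣ) (θ : B →* ℂˣ) : B →* ℂˣ := γ.comp D.norm * θ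

theorem twistB_moved {γ : A →* ℂˣ} {θ : B →* ℂˣ} (hθ : ∃ y, θ (y ^ Q) ≠ θ y) :
    ∃ y, D.twistB γ θ (y ^ Q) ≠ D.twistB γ θ y := by
  obtain ⟨y, hy⟩ := hθ
  exact ⟨y, by simpa [twistB, D.norm_frob] using hy⟩

theorem lin_mul_cu (γ : A →* ℂˣ) (θ : B →* ℂˣ) (hθ : ∃ y, θ (y ^ Q) ≠ θ y) :
    (fun x => D.lin γ x * D.cu θ x) = D.cu (D.twistB γ θ) := by
  refine D.ext_fun (isClassFunction_mul (D.isClassFunction_lin γ) (D.isClassFunction_cu θ hθ))
    (D.isClassFunction_cu _ (D.twistB_moved hθ)) (fun a => ?_) (fun a => ?_) (fun a b hab => ?_) fun y hy => ?_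
  · simp only [D.lin_centre, D.cu_centre, twistB, MonoidHom.mul_apply, MonoidHom.comp_apply, Units.val_mul,
      D.norm_incl, map_mul]
    ring
  · simp only [D.lin_uni, D.cu_uni, twistB, MonoidHom.mul_apply, MonoidHom.comp_apply, Units.val_mul,
      D.norm_incl, map_mul]
    ring
  · simp only [D.cu_T _ _ _ hab, mul_zero]
  · simp only [D.lin_S _ _ hy, D.cu_S _ _ hy, twistB, MonoidHom.mul_apply, MonoidHom.comp_apply,
      Units.val_mul, D.norm_frob]
    ring

/-- The product of a linear and an irreducible character. -/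
theorem irr_twist (γ : A →* ℂˣ) (ψ : Cfsg.IrrCharacter H) :
    Cfsg.IsIrrCharacter H (fun x => D.lin γ x * (ψ : H → ℂ) x) := by
  have hs : ∀ f : H → ℂ, (fun x => D.lin γ x * ((D.σ : ℂ) • f) x) =
      (D.σ : ℂ) • fun x => D.lin γ x * f x := fun f => funext fun x => by
    simp only [Pi.smul_apply, smul_eq_mul]; ring
  rcases D.irr_cases ψ with ⟨α, e⟩ | ⟨α, e⟩ | ⟨α, β, hab, e⟩ | ⟨θ, hθ, e⟩ <;> rw [e]
  · rw [D.lin_mul]; exact D.irr_lin _
  · rw [hs, D.lin_mul_st]; exact D.irr_st _
  · rw [hs, D.lin_mul_ps _ _ _ hab]; exact D.irr_ps _ _ (by simpa using hab)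
  · rw [hs, D.lin_mul_cu _ _ hθ]; exact D.irr_cu _ (D.twistB_moved hθ)

/-- The twist of an irreducible character. -/
noncomputable def twist (γ : A →* ℂˣ) (ψ : Cfsg.IrrCharacter H) : Cfsg.IrrCharacter H :=
  ⟨fun x => D.lin γ x * (ψ : H → ℂ) x, D.irr_twist γ ψ⟩

theorem twist_apply (γ : A →* ℂˣ) (ψ : Cfsg.IrrCharacter H) (x : H) :
    (D.twist γ ψ : H → ℂ) x = D.lin γ x * (ψ : H → ℂ) x := rfl

end Table

end Cfsg.Agent.H36.TwoTori
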